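import Groth.Agent.H12Pic.FinField.Proj
import Groth.Agent.H10Coh.HomFibre.Basic

/-!
# Over a finite field there are finitely many numerically trivial modules

Noetherian induction on the support of the coherent module tensored with them, by a Chow cover.
-/

set_option autoImplicit false
set_option linter.style.haveILetI false
set_option linter.unusedSectionVars false
universe u

open CategoryTheory CategoryTheory.Limits AlgebraicGeometry Opposite TopologicalSpace
open Groth.Agent.H25Theta (pb pT pC pI tI)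

noncomputable section

namespace Groth.Agent.H12Pic.FinField

open Groth.Agent.H12Pic.NumTriv
open Groth.Agent.H12Pic.Bdd (exists_chow_ample bijective_unit_app isZero_restrict_kernel_cokernel isZero_of_support_empty)

variable {k : Type u} [Field k] [Finite k] {X : Scheme.{u}} [X.Over (Spec (CommRingCat.of k))]
  [IsProper (X ↘ Spec (CommRingCat.of k))]

variable (k) in
/-- The products of `M` with numerically trivial modules fall into finitely many classes. -/
def Good (M : X.Modules) : Prop :=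
  ∃ (ι : Type u) (_ : Finite ι) (S : ι → X.Modules), (∀ i, Coh.IsCoh (S i)) ∧
    ∀ N, NT k N → ∃ i, Nonempty (CohB1.tensorMod N M ≅ S i)

variable (k) in
include k in
/-- There are finitely many maps between two coherent modules. -/
theorem finite_hom {F G : X.Modules} (hF : Coh.IsCoh F) (hG : Coh.IsCoh G) : Finite (F ⟶ G) := by
  haveI := H10Coh.HomFibre.finite_hom (R := k) hF hG
  exact Module.finite_of_finite k

theorem good_zero {M : X.Modules} (hM : Coh.IsCoh M) (h : IsZero M) : Good k M :=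
  ⟨PUnit.{u + 1}, inferInstance, fun _ => M, fun _ => hM,
    fun N _ => ⟨⟨⟩, ⟨(((DCoh.tensorBi (X := X)).obj N).map_isZero h).iso h⟩⟩⟩

/-- A kernel of a map between a sum of good modules and a good module is good. -/
theorem good_of_kernel {M B Q C : X.Modules} (hB : Good k B) (hQ : Good k Q) (hC : Good k C) (ψ : B ⊞ Q ⟶ C)
    (e : kernel ψ ≅ M) : Good k M := by
  haveI := H28Int.isNoetherian k (X := X)
  obtain ⟨ι₁, h₁, S₁, hS₁, hm₁⟩ := hB
  obtain ⟨ι₂, h₂, S₂, hS₂, hm₂⟩ := hQ
  obtain ⟨ι₃, h₃, S₃, hS₃, hm₃⟩ := hC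
  haveI := h₁
  haveI := h₂
  haveI := h₃
  haveI : ∀ a : ι₁ × ι₂ × ι₃, Finite (S₁ a.1 ⊞ S₂ a.2.1 ⟶ S₃ a.2.2) := fun a =>
    finite_hom k (LeadDev.isCoh_biprod (hS₁ _) (hS₂ _)) (hS₃ _)
  refine ⟨Σ a : ι₁ × ι₂ × ι₃, (S₁ a.1 ⊞ S₂ a.2.1 ⟶ S₃ a.2.2), inferInstance, fun a => kernel a.2,
    fun a => H10Coh.isCoh_kernel a.2 (LeadDev.isCoh_biprod (hS₁ _) (hS₂ _)) (hS₃ _).1, fun N hN => ?_⟩
  obtain ⟨i, ⟨ei⟩⟩ := hm₁ N hN
  obtain ⟨j, ⟨ej⟩⟩ := hm₂ N hN
  obtain ⟨l, ⟨el⟩⟩ := hm₃ N hN
  obtain ⟨N', -, ⟨eN⟩⟩ := hN.exists_inverse k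
  let F := (DCoh.tensorBi (X := X)).obj N
  haveI : F.IsEquivalence := H15Site.Invertible.isEquivalence_of_iso_unit (O := X.sheaf) (L := N) (N := N') eN
  haveI : PreservesBinaryBiproducts F := preservesBinaryBiproducts_of_preservesBiproducts _
  let α : S₁ i ⊞ S₂ j ≅ F.obj (B ⊞ Q) := (biprod.mapIso ei.symm ej.symm) ≪≫ (F.mapBiprod B Q).symm
  exact ⟨⟨⟨i, j, l⟩, α.hom ≫ F.map ψ ≫ el.hom⟩, ⟨F.mapIso e.symm ≪≫ PreservesKernel.iso F ψ ≪≫
    (kernelCompMono (F.map ψ) el.hom).symm ≪≫ (kernelIsIsoComp α.hom (F.map ψ ≫ el.hom)).symm⟩⟩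

/-- A direct image from a scheme with an ample module is good. -/
theorem good_push {W : Scheme.{u}} (g : W ⟶ X) [IsProper g] {A₀ : W.Modules} (hA₀ : CohB1.IsAmple A₀)
    {M : W.Modules} (hM : Coh.IsCoh M) : Good k ((Scheme.Modules.pushforward g).obj M) := by
  letI : W.Over (Spec (CommRingCat.of k)) := ⟨g ≫ (X ↘ Spec (CommRingCat.of k))⟩
  haveI : IsProper (W ↘ Spec (CommRingCat.of k)) :=
    inferInstanceAs (IsProper (g ≫ (X ↘ Spec (CommRingCat.of k))))
  haveI : IsLocallyNoetherian X := LocallyOfFiniteType.isLocallyNoetherian (X ↘ Spec (CommRingCat.of k))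
  haveI : IsLocallyNoetherian W := LocallyOfFiniteType.isLocallyNoetherian (W ↘ Spec (CommRingCat.of k))
  obtain ⟨A, B, hA, hB, hpres⟩ := exists_presentation_nt_field k hA₀
  haveI := finite_hom k hB hA
  refine ⟨(B ⟶ A), inferInstance, fun v => (Scheme.Modules.pushforward g).obj (CohB1.tensorMod M (cokernel v)),
    fun v => H24GE.isCoh_pushforward g (H10Coh.TT.isCoh_tensorMod hM (H10Coh.isCoh_cokernel v hB.1 hA)),
    fun N hN => ?_⟩
  obtain ⟨v, ⟨ev⟩⟩ := hpres _ (NT.pullback k g rfl hN)
  obtain ⟨e₅⟩ := H10Coh.Tw.nonempty_push_tensor_iso g M hN.inv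
  exact ⟨v, ⟨H10Coh.Tw.commIso N _ ≪≫ e₅ ≪≫ (Scheme.Modules.pushforward g).mapIso (tI (Iso.refl M) ev.symm)⟩⟩

/-- The products of a coherent module with numerically trivial modules fall into finitely many classes. -/
theorem good_coh (M : X.Modules) (hM : Coh.IsCoh M) : Good k M := by
  classical
  haveI := H28Int.isNoetherian k (X := X)
  suffices H : ∀ (C : Closeds X) (M : X.Modules), Coh.IsCoh M → CohB1.support M ⊆ (C : Set X) → Good k M from
    H ⊤ M hM fun _ _ => trivial
  clear hM M
  intro C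
  induction C using WellFoundedLT.induction with
  | _ C ih =>
    intro M hM hsupp
    by_cases hne : CohB1.support M = ∅
    · exact good_zero hM (isZero_of_support_empty hne)
    by_cases heq : CohB1.support M = (C : Set X)
    swap
    · refine ih ⟨CohB1.support M, H10Coh.isClosed_support _ hM.2⟩ (lt_of_le_of_ne hsupp fun h => heq ?_) M hM
        Set.Subset.rfl
      exact congrArg SetLike.coe h
    let J := Fitt.sheafIdeal M 0
    let i := J.subschemeι
    have hJC : (J.support : Set X) = (C : Set X) := by rw [← LeadProper.support_eq_fitt M hM.1 hM.2, heq]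
    haveI hη : IsIso ((Scheme.Modules.pullbackPushforwardAdjunction i).unit.app M) :=
      LeadProper.isIso_unit_of_killedByIdeal M hM.1 i
        (J.ker_subschemeι.symm ▸ LeadProper.killedByIdeal_fitt M hM.1 hM.2)
    haveI : IsLocallyNoetherian J.subscheme := LocallyOfFiniteType.isLocallyNoetherian i
    let Nz := (Scheme.Modules.pullback i).obj M
    have hNz : Coh.IsCoh Nz := H17.ConsProp.isCoh_pullback i hM
    obtain ⟨W, π, A₀, U, hπ, hA₀, hUd, hUiso⟩ := exists_chow_ample k (i ≫ (X ↘ Spec (CommRingCat.of k)))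
    haveI := hπ
    haveI := hUiso
    haveI : IsLocallyNoetherian W := LocallyOfFiniteType.isLocallyNoetherian π
    let g := π ≫ i
    let Mw := (Scheme.Modules.pullback π).obj Nz
    have hMw : Coh.IsCoh Mw := H17.ConsProp.isCoh_pullback π hNz
    let B := (Scheme.Modules.pushforward g).obj Mw
    have hBc : Coh.IsCoh B := H24GE.isCoh_pushforward g hMw
    have hBg : Good k B := good_push g hA₀ hMw
    let u : M ⟶ B := (Scheme.Modules.pullbackPushforwardAdjunction i).unit.app M ≫
      (Scheme.Modules.pushforward i).map ((Scheme.Modules.pullbackPushforwardAdjunction π).unit.app Nz) ≫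
      (Scheme.Modules.pushforwardComp π i).hom.app Mw
    let E : Closeds X := ⟨i '' (U : Set J.subscheme)ᶜ, i.isClosedEmbedding.isClosedMap _ U.isOpen.isClosed_compl⟩
    have hEC : E < C := by
      refine lt_of_le_of_ne (fun x hx => ?_) fun h => ?_
      · obtain ⟨z, -, rfl⟩ := hx
        show J.subschemeι z ∈ (C : Set X)
        rw [← hJC, ← J.range_subschemeι]
        exact ⟨z, rfl⟩
      · obtain ⟨x, hx⟩ := Set.nonempty_iff_ne_empty.2 hne
        rw [heq, ← hJC, ← J.range_subschemeι] at hx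
        obtain ⟨z, rfl⟩ := hx
        haveI : Nonempty J.subscheme := ⟨z⟩
        obtain ⟨z', hz'⟩ := hUd.nonempty
        have h1 : i z' ∈ (C : Set X) := by rw [← hJC, ← J.range_subschemeι]; exact ⟨z', rfl⟩
        rw [← h] at h1
        obtain ⟨w, hw, hwz⟩ := h1
        exact hw (i.isClosedEmbedding.injective hwz ▸ hz')
    let V : X.Opens := ⟨(E : Set X)ᶜ, E.isClosed.isOpen_compl⟩
    have hpre : i ⁻¹ᵁ V ≤ U := fun z hz => by_contra fun h => hz ⟨z, h, rfl⟩
    let F := Scheme.Modules.restrictFunctor V.ι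
    haveI : IsIso (F.map u) := by
      haveI := hM.1
      haveI := hBc.1
      refine LeadDev.isIso_of_bijective_affine _ (LeadDev.isQCoh_restrict V.ι M hM.1)
        (LeadDev.isQCoh_restrict V.ι B hBc.1) fun O hO => ?_
      show Function.Bijective (u.app (V.ι ''ᵁ O))
      have hle : i ⁻¹ᵁ (V.ι ''ᵁ O) ≤ U := fun z hz => hpre (by
        obtain ⟨y, -, hy⟩ := (hz : i z ∈ V.ι '' (O : Set V.toScheme))
        show i z ∈ V
        rw [← hy]
        exact y.2)
      have h1 : Function.Bijective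
          (((Scheme.Modules.pullbackPushforwardAdjunction i).unit.app M).app (V.ι ''ᵁ O)) :=
        ConcreteCategory.bijective_of_isIso _
      have h2 := bijective_unit_app π Nz hNz.1 U _ ((hO.image_of_isOpenImmersion V.ι).preimage i) hle
      exact h2.comp h1
    obtain ⟨hk, hc⟩ := isZero_restrict_kernel_cokernel u V
    let I := Scheme.IdealSheafData.vanishingIdeal E
    have hI : (I.support : Set X) = (E : Set X) :=
      I.range_subschemeι.symm.trans (H17.range_vanishingIdeal_subschemeι E)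
    obtain ⟨n, hn⟩ := H10Inj.IdealPow.exists_mono_comp I hM hBc u (fun x hx => by
      rw [hI]
      by_contra hcx
      exact LeadDev.notMem_support_of_isZero_restrict V.ι hk ⟨⟨x, hcx⟩, rfl⟩ hx)
    let m := Dual3.idealMulι (I ^ n) M
    have hm := LeadDev.isCoh_idealMul (I ^ n) M hM
    let Q := cokernel m
    have hQc : Coh.IsCoh Q := H10Coh.isCoh_cokernel m hm.1 hM
    have hQs : CohB1.support Q ⊆ (E : Set X) := fun x hx => by
      by_contra hxE
      obtain ⟨O, hO, hxO, -⟩ := exists_isAffineOpen_mem_and_subset (U := (⊤ : X.Opens)) (x := x) trivial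
      refine LeadDev.notMem_support_cokernel m hm.1 hM.1 hO hxO
        (LeadDev.surjAt_idealMulι (I ^ n) M hM ?_ ⟨O, hO⟩ hxO) hx
      rcases Nat.eq_zero_or_pos n with rfl | hn0
      · simp [Scheme.IdealSheafData.support_top]
      · rw [Scheme.IdealSheafData.support_pow _ _ hn0.ne', hI]
        exact hxE
    let w : M ⟶ B ⊞ Q := biprod.lift u (cokernel.π m)
    haveI hwm : Mono w := by
      refine Preadditive.mono_of_cancel_zero _ fun {T} a ha => ?_
      have h1 : a ≫ u = 0 := by simpa [w] using ha =≫ biprod.fst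
      have h2 : a ≫ cokernel.π m = 0 := by simpa [w] using ha =≫ biprod.snd
      haveI : Mono m := inferInstanceAs (Mono (kernel.ι _))
      have h3 : Abelian.monoLift m a h2 = 0 := by
        haveI := hn
        rw [← cancel_mono (m ≫ u), zero_comp, ← Category.assoc, Abelian.monoLift_comp, h1]
      rw [← Abelian.monoLift_comp m a h2, h3, zero_comp]
    have hwc : Coh.IsCoh (cokernel w) := H10Coh.isCoh_cokernel w hM.1 (LeadDev.isCoh_biprod hBc hQc)
    have hQV : IsZero (F.obj Q) := by
      refine isZero_of_support_empty (Set.eq_empty_of_forall_notMem fun y hy => ?_)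
      exact y.2 (hQs ((H16Derived.MVPush.mem_support_restrict V Q y).1 hy))
    haveI : IsIso (F.map w) := by
      haveI : PreservesBinaryBiproducts F := preservesBinaryBiproducts_of_preservesBiproducts _
      have hfst : IsIso (biprod.fst : F.obj B ⊞ F.obj Q ⟶ F.obj B) :=
        ⟨biprod.inl, biprod.hom_ext _ _ (by simp) (hQV.eq_of_tgt _ _), by simp⟩
      have h1 : F.map w ≫ (F.mapBiprod B Q).hom ≫ biprod.fst = F.map u := by
        rw [Functor.mapBiprod_hom, biprod.lift_fst, ← F.map_comp, biprod.lift_fst]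
      exact IsIso.of_isIso_fac_right (h := F.map u) h1
    have hws : CohB1.support (cokernel w) ⊆ (E : Set X) := fun x hx => by
      by_contra hcx
      exact LeadDev.notMem_support_of_isZero_restrict V.ι (isZero_restrict_kernel_cokernel w V).2 ⟨⟨x, hcx⟩, rfl⟩ hx
    refine good_of_kernel hBg (ih E hEC Q hQc hQs) (ih E hEC _ hwc hws) (cokernel.π w) ?_
    exact (asIso (Abelian.factorThruImage w)).symm

variable (k X) in
/-- Over a finite field there are finitely many numerically trivial modules. -/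
theorem exists_finite_classes : ∃ (ι : Type u) (_ : Finite ι) (S : ι → X.Modules),
    ∀ N, NT k N → ∃ i, Nonempty (N ≅ S i) := by
  haveI := H28Int.isNoetherian k (X := X)
  obtain ⟨ι, hι, S, -, hS⟩ := good_coh (k := k) (X := X) (Coh.structureModule X)
    (H11Ample.isCoh_of_isInvertible H11Ample.isInvertible_structureModule)
  refine ⟨ι, hι, S, fun N hN => ?_⟩
  obtain ⟨i, ⟨e⟩⟩ := hS N hN
  exact ⟨i, ⟨(H10Coh.Tw.rightUnitIso N).symm ≪≫ e⟩⟩

/-- Powers add. -/
theorem nonempty_pow_add {M : X.Modules} (a : ℕ) :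
    ∀ b : ℕ, Nonempty (CohB1.tensorMod (CohB1.tensorPow M a) (CohB1.tensorPow M b) ≅ CohB1.tensorPow M (a + b))
  | 0 => ⟨H10Coh.Tw.rightUnitIso _⟩
  | b + 1 => by
    obtain ⟨e⟩ := nonempty_pow_add a b
    exact ⟨(H10Coh.Tw.assoc _ _ M).symm ≪≫ PicGrp.tensorModIso e (Iso.refl M)⟩

/-- Over a finite field numerically trivial modules have finite order. -/
theorem exists_pow_trivial {L : X.Modules} (h : NT k L) :
    ∃ d : ℕ, 0 < d ∧ Nonempty (CohB1.tensorPow L d ≅ Coh.structureModule X) := by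
  obtain ⟨ι, hι, S, hS⟩ := exists_finite_classes k X
  choose f hf using fun j : ℕ => hS _ (h.pow k j)
  obtain ⟨a, b, hne, hab⟩ := Finite.exists_ne_map_eq_of_infinite f
  wlog hlt : a < b generalizing a b
  · exact this b a hne.symm hab.symm (by omega)
  obtain ⟨ea⟩ := hf a
  obtain ⟨eb⟩ := hf b
  obtain ⟨s⟩ := nonempty_pow_add (M := L) a (b - a)
  refine ⟨b - a, by omega, H25Theta.cancel_right (H11Ample.isInvertible_tensorPow h.inv a) ⟨?_⟩⟩
  exact H10Coh.Tw.commIso _ _ ≪≫ s ≪≫ eqToIso (congrArg (CohB1.tensorPow L) (by omega)) ≪≫ eb ≪≫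
    eqToIso (congrArg S hab.symm) ≪≫ ea.symm ≪≫ (H10Coh.Tw.leftUnitIso _).symm

end Groth.Agent.H12Pic.FinField
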