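import Groth.Agent.H12Pic.FinField.Classes
import Groth.Agent.H12Pic.InvertibleStage
import Groth.Agent.H7Lim.ProperFlatModel

/-!
# Numerically trivial modules over algebraic extensions of finite fields have finite order

The scheme and the module come from a finite subfield.
-/

set_option autoImplicit false
set_option linter.style.haveILetI false
set_option linter.unusedSectionVars false
set_option backward.isDefEq.respectTransparency false
universe u

open CategoryTheory CategoryTheory.Limits AlgebraicGeometry Opposite TopologicalSpace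

noncomputable section

namespace Groth.Agent.H12Pic.FinField

open Groth.Agent.H12Pic.NumTriv H7Lim H7Lim.FPDescent H17.ConsProp

/-- Finitely generated subrings of a field algebraic over a finite prime field are finite. -/
theorem finite_adjoin (p : ℕ) [Fact (Nat.Prime p)] {k : Type u} [Field k] [CharP k p]
    (halg : ∀ x : k, ∃ n : ℕ, 0 < n ∧ x ^ (p ^ n) = x) (s : Finset k) :
    Finite (Algebra.adjoin ℤ (s : Set k)) := by
  have hint : ∀ x : k, IsIntegral ℤ x := fun x => by
    obtain ⟨n, hn, hx⟩ := halg x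
    refine ⟨Polynomial.X ^ (p ^ n) - Polynomial.X, ?_, ?_⟩
    · refine Polynomial.monic_X_pow_sub ?_
      rw [Polynomial.degree_X]
      exact_mod_cast Nat.one_lt_pow hn.ne' (Fact.out : Nat.Prime p).one_lt
    · simp [hx]
  have hfg : (Subalgebra.toSubmodule (Algebra.adjoin ℤ (s : Set k))).FG :=
    fg_adjoin_of_finite s.finite_toSet fun x _ => hint x
  haveI : Module.Finite ℤ (Algebra.adjoin ℤ (s : Set k)) := Module.Finite.iff_fg.2 hfg
  refine Module.finite_of_fg_torsion _ fun x => ⟨⟨(p : ℤ), mem_nonZeroDivisors_of_ne_zero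
    (by exact_mod_cast (Fact.out : Nat.Prime p).ne_zero)⟩, Subtype.ext ?_⟩
  show (p : ℤ) • (x : k) = 0
  rw [zsmul_eq_mul]
  simp [CharP.cast_eq_zero]

variable (p : ℕ) [Fact (Nat.Prime p)] (k : Type u) [Field k] [CharP k p]

include p in
/-- A proper scheme with an invertible module over a field algebraic over `𝔽_p` comes from a finite field. -/
theorem exists_finite_field_model (halg : ∀ x : k, ∃ n : ℕ, 0 < n ∧ x ^ (p ^ n) = x) {X : Scheme.{u}}
    (f : X ⟶ Spec (CommRingCat.of k)) [IsProper f] {L : X.Modules} (hL : PicF.IsInvertible L) :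
    ∃ (F : Type u) (_ : Field F) (_ : Finite F) (_ : Algebra F k) (X₀ : Scheme.{u})
      (f₀ : X₀ ⟶ Spec (CommRingCat.of F)) (L₀ : X₀.Modules) (g : X ⟶ X₀),
      IsProper f₀ ∧ PicF.IsInvertible L₀ ∧ IsPullback g f f₀ (Spec.map (CommRingCat.ofHom (algebraMap F k))) ∧
        Nonempty ((Scheme.Modules.pullback g).obj L₀ ≅ L) := by
  haveI : IsLocallyNoetherian X := LocallyOfFiniteType.isLocallyNoetherian f
  haveI : LocallyOfFinitePresentation f := LocallyOfFinitePresentation.iff_locallyOfFiniteType.2 inferInstance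
  have hFP : CohB1.IsFP L := H8Props.FinLocFree.isFP_of_isFinLocFree L (H23Para.isFinLocFree_of_isInvertible hL)
  haveI : Coh.IsQCoh L := H29Fitt.isQCoh_of_isFP L hFP
  obtain ⟨i, X₀, u₀, F₀, q, _, _, h1, -, -⟩ :=
    H17.ConsProp.exists_mod_model (R := k) (show X ⟶ (subringCone k).pt from f) L hFP
  haveI : Nonempty (Finset k) := ⟨∅⟩
  let D := (subringFunctor k).op ⋙ Scheme.Spec
  let c := subringCone k
  have hc : IsLimit c := isLimitSubringCone k
  haveI : IsNoetherian X₀ := isNoetherian_of_finiteType u₀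
  have hp : IsProper (pullback.snd u₀ (c.π.app i)) :=
    (prop_iff_of_isPullback (P := @IsProper) h1).mp ‹IsProper f›
  obtain ⟨j, φ, hj⟩ := descends_isProper (Finset k)ᵒᵖ D c hc i u₀ inferInstance hp
  let X₁ := pullback u₀ (D.map φ)
  let f₁ : X₁ ⟶ D.obj j := pullback.snd u₀ (D.map φ)
  haveI : IsProper f₁ := hj
  let q₁ : X ⟶ X₁ := pullback.lift q (f ≫ c.π.app j) (by rw [h1.w, Category.assoc, c.w])
  have h₁ : IsPullback q₁ f f₁ (c.π.app j) := by
    refine IsPullback.of_right (h₁₂ := pullback.fst u₀ (D.map φ)) (h₂₂ := D.map φ) (v₁₃ := u₀) ?_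
      (pullback.lift_snd _ _ _) (IsPullback.of_hasPullback _ _)
    rw [pullback.lift_fst, c.w]
    exact h1
  let D₁ := pbDiagram D j f₁
  let c₁ := pbCone D c j f₁
  have hc₁ : IsLimit c₁ := isLimitPbCone D j f₁ hc
  haveI : ∀ (a b : Over j) (w : a ⟶ b), IsAffineHom (D₁.map w) := fun a b w =>
    MorphismProperty.of_isPullback (P := @IsAffineHom) (isPullback_pbDiagram_map D j f₁ w).flip inferInstance
  haveI : ∀ a : Over j, IsProper (pullback.snd f₁ (D.map a.hom)) := fun a =>
    MorphismProperty.pullback_snd _ _ ‹_›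
  haveI : ∀ a : Over j, IsNoetherian (D₁.obj a) := fun a =>
    isNoetherian_of_finiteType (pullback.snd f₁ (D.map a.hom))
  let t : c₁.pt ≅ X := (IsPullback.of_hasPullback f₁ (c.π.app j)).isoIsPullback _ _ h₁
  obtain ⟨m, -, L₁, hL₁, ⟨eL⟩⟩ := H12Pic.exists_invertible_stage hc₁ (Over.mk (𝟙 j))
    (H11Ample.isInvertible_pullback t.hom hL)
  let g : X ⟶ D₁.obj m := t.inv ≫ c₁.π.app m
  haveI hfin : Finite (Algebra.adjoin ℤ ((unop m.left : Finset k) : Set k)) := finite_adjoin p halg _
  refine ⟨↥(Algebra.adjoin ℤ ((unop m.left : Finset k) : Set k)), (Finite.isField_of_domain _).toField, hfin,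
    (Algebra.adjoin ℤ ((unop m.left : Finset k) : Set k)).val.toRingHom.toAlgebra, D₁.obj m,
    pullback.snd f₁ (D.map m.hom), L₁, g, ‹∀ a : Over j, IsProper (pullback.snd f₁ (D.map a.hom))› m, hL₁, ?_, ⟨?_⟩⟩
  · refine IsPullback.of_right (h₁₂ := pullback.fst f₁ (D.map m.hom)) (h₂₂ := D.map m.hom) (v₁₃ := f₁) ?_ ?_
      (IsPullback.of_hasPullback _ _)
    · rw [show g ≫ pullback.fst f₁ (D.map m.hom) = q₁ by simp [g, c₁, pbCone, t]]
      show IsPullback q₁ f f₁ (c.π.app m.left ≫ D.map m.hom)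
      rw [c.w]
      exact h₁
    · show g ≫ pullback.snd f₁ (D.map m.hom) = f ≫ c.π.app m.left
      simp [g, c₁, pbCone, t]
  · exact ((Scheme.Modules.pullbackComp t.inv (c₁.π.app m)).app L₁).symm ≪≫
      (Scheme.Modules.pullback t.inv).mapIso eL ≪≫ (Scheme.Modules.pullbackComp t.inv t.hom).app L ≪≫
      (Scheme.Modules.pullbackCongr t.inv_hom_id).app L ≪≫ (Scheme.Modules.pullbackId X).app L

include p in
/-- Numerically trivial modules on proper schemes over fields algebraic over `𝔽_p` have finite order. -/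
theorem exists_pow_trivial_algebraic (halg : ∀ x : k, ∃ n : ℕ, 0 < n ∧ x ^ (p ^ n) = x) (X : Scheme.{u})
    [X.Over (Spec (CommRingCat.of k))] [IsProper (X ↘ Spec (CommRingCat.of k))] {L : X.Modules}
    (h : NT k L) : ∃ d : ℕ, 0 < d ∧ Nonempty (CohB1.tensorPow L d ≅ Coh.structureModule X) := by
  obtain ⟨F, hF, hFin, alg, X₀, f₀, L₀, g, hf₀, hL₀, hsq, ⟨e⟩⟩ :=
    exists_finite_field_model p k halg (X ↘ Spec (CommRingCat.of k)) h.inv
  letI := hF
  letI := hFin
  letI := alg
  letI : X₀.Over (Spec (CommRingCat.of F)) := ⟨f₀⟩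
  haveI : IsProper (X₀ ↘ Spec (CommRingCat.of F)) := hf₀
  let b := Spec.map (CommRingCat.ofHom (algebraMap F k))
  letI : (pullback (X₀ ↘ Spec (CommRingCat.of F)) b).Over (Spec (CommRingCat.of k)) := ⟨pullback.snd _ _⟩
  haveI : IsProper (pullback (X₀ ↘ Spec (CommRingCat.of F)) b ↘ Spec (CommRingCat.of k)) :=
    inferInstanceAs (IsProper (pullback.snd _ _))
  let t : pullback (X₀ ↘ Spec (CommRingCat.of F)) b ≅ X := (IsPullback.of_hasPullback _ b).isoIsPullback _ _ hsq
  have ht : t.hom ≫ g = pullback.fst _ _ := IsPullback.isoIsPullback_hom_fst _ _ _ _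
  have hNT : NT k ((Scheme.Modules.pullback (pullback.fst (X₀ ↘ Spec (CommRingCat.of F)) b)).obj L₀) :=
    (h.pullback k t.hom (IsPullback.isoIsPullback_hom_snd _ _ _ _)).congr k
      ((Scheme.Modules.pullback t.hom).mapIso e.symm ≪≫ (Scheme.Modules.pullbackComp t.hom g).app L₀ ≪≫
        (Scheme.Modules.pullbackCongr ht).app L₀)
  have h₀ : NT F L₀ := ⟨hL₀, (S14811.result F X₀ L₀ hL₀ k).2 hNT.num⟩
  obtain ⟨d, hd, ⟨e₀⟩⟩ := exists_pow_trivial h₀
  obtain ⟨ep⟩ := H11Ample.exists_iso_pullback_tensorPow g hL₀ d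
  exact ⟨d, hd, ⟨(H10Coh.Tw.tensorPowIso e.symm d) ≪≫ ep.symm ≪≫ (Scheme.Modules.pullback g).mapIso e₀ ≪≫
    H16Derived.KFlat.Stalk.structurePullbackIso g⟩⟩

end Groth.Agent.H12Pic.FinField
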