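import Groth.Agent.H12Pic.Bdd.Proper
import Groth.Agent.H12Pic.BoundedVanish
import Groth.Agent.H28Int.FieldExt
import Groth.Agent.S14811

/-!
# Uniform presentations of numerically trivial modules on projective schemes over any field

The bounds come from the algebraic closure.
-/

set_option autoImplicit false
set_option linter.style.haveILetI false
set_option linter.unusedSectionVars false
universe u

open CategoryTheory CategoryTheory.Limits AlgebraicGeometry Opposite TopologicalSpace
open Groth.Agent.H25Theta (pb pT pC pI tI)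

noncomputable section

namespace Groth.Agent.H12Pic.FinField

open Groth.Agent.H12Pic.NumTriv

variable (k : Type u) [Field k] {X : Scheme.{u}} [X.Over (Spec (CommRingCat.of k))]

variable (X) in
/-- The base change to the algebraic closure. -/
abbrev XK : Scheme.{u} :=
  pullback (X ↘ Spec (CommRingCat.of k)) (Spec.map (CommRingCat.ofHom (algebraMap k (AlgebraicClosure k))))

instance : (XK k X).Over (Spec (CommRingCat.of (AlgebraicClosure k))) := ⟨pullback.snd _ _⟩

variable (X) in
/-- The projection from the base change. -/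
abbrev prK : XK k X ⟶ X := pullback.fst _ _

variable [IsProper (X ↘ Spec (CommRingCat.of k))]

instance : IsProper (XK k X ↘ Spec (CommRingCat.of (AlgebraicClosure k))) := inferInstanceAs (IsProper (pullback.snd _ _))

theorem sqK : IsPullback (prK k X) (XK k X ↘ Spec (CommRingCat.of (AlgebraicClosure k))) (X ↘ Spec (CommRingCat.of k))
    (Spec.map (CommRingCat.ofHom (algebraMap k (AlgebraicClosure k)))) := IsPullback.of_hasPullback _ _

theorem nt_prK {L : X.Modules} (hL : NT k L) : NT (AlgebraicClosure k) (pb (prK k X) L) :=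
  ⟨H11Ample.isInvertible_pullback _ hL.inv, (S14811.result k X L hL.inv (AlgebraicClosure k)).1 hL.num⟩

/-- Numerically trivial twists keep Euler characteristics over any field. -/
theorem euler_tensor_field {F : X.Modules} (hF : Coh.IsCoh F) {L : X.Modules} (hL : NT k L) :
    Curv2.euler k X (CohB1.tensorMod L F) = Curv2.euler k X F := by
  haveI := H28Int.isNoetherian k (X := X)
  haveI := H28Int.isNoetherian (AlgebraicClosure k) (X := XK k X)
  rw [← H28Int.FieldExt.euler_bc (AlgebraicClosure k) (sqK k)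
    (H10Coh.isCoh_of_iso (H10Coh.Tw.commIso F L) (H11Ample.isCoh_tensor hF hL.inv)),
    ← H28Int.FieldExt.euler_bc (AlgebraicClosure k) (sqK k) hF, H25Euler.euler_congr (pT (prK k X) L F)]
  exact euler_tensor_eq (AlgebraicClosure k) (H17.ConsProp.isCoh_pullback _ hF) (nt_prK k hL)

open H22Alg.CMField in
/-- Uniform regularity of numerically trivial modules over any field. -/
theorem exists_reg {n : ℕ} (i : X ⟶ CohB1.ProjSpace n k) [IsClosedImmersion i] :
    ∃ m : ℕ, ∀ L : X.Modules, NT k L → Pic13.IsMRegular k i L (m : ℤ) := by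
  haveI := H28Int.isNoetherian k (X := X)
  haveI := H28Int.isNoetherian (AlgebraicClosure k) (X := XK k X)
  haveI : IsAffineHom (prK k X) := MorphismProperty.pullback_fst (P := @IsAffineHom) _ _ inferInstance
  have hA : CohB1.IsAmple (pb (prK k X) (TwistOn.O i 1)) :=
    H11Ample.isAmple_pullback_of_isAffineHom _ (TwistOn.isAmple_one i)
  obtain ⟨T, q, hq, hq', G, hG, hmem⟩ := Bdd.isBounded_nt_proper (AlgebraicClosure k) (XK k X)
  haveI := hq
  haveI := hq'
  obtain ⟨n₀, hn₀⟩ := BoundedVanish.exists_bound_van (AlgebraicClosure k) q G hG hA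
  obtain ⟨r, hr⟩ := exists_dim k (X := X)
  refine ⟨n₀ + r, fun L hL p hp => ?_⟩
  have hOinv : ∀ d : ℤ, PicF.IsInvertible (TwistOn.O i d) := (TwistOn.fam i).inv
  have hc : Coh.IsCoh (CohB1.tensorMod L (TwistOn.O i (((n₀ + r : ℕ) : ℤ) - p))) :=
    H11Ample.isCoh_tensor (H11Ample.isCoh_of_isInvertible hL.inv) (hOinv _)
  show Subsingleton (Coh.HH X (CohB1.tensorMod L (TwistOn.O i (((n₀ + r : ℕ) : ℤ) - p))) p)
  rcases lt_or_ge r p with hrp | hrp
  · haveI : X.IsSeparated := Scheme.IsSeparated.mk (by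
      rw [← terminal.comp_from (X ↘ Spec (CommRingCat.of k))]; infer_instance)
    exact van_iff.1 (H28Int.subsingleton_HnM_of_support (X := X) ⊤ r
      ((Topology.IsInducing.subtypeVal.topologicalKrullDim_le).trans hr) _ hc.1 (fun _ _ => trivial) p hrp)
  · obtain ⟨e, he, hd⟩ : ∃ e : ℕ, n₀ ≤ e ∧ ((n₀ + r : ℕ) : ℤ) - p = (e : ℤ) :=
      ⟨n₀ + r - p, by omega, by omega⟩
    rw [hd] at hc ⊢
    obtain ⟨t, ht, ⟨eG⟩⟩ := hmem _ (nt_prK k hL)
    haveI := hn₀ e he p hp t ht
    obtain ⟨ew⟩ := (TwistOn.fam i).nonempty_tensorPow e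
    obtain ⟨ep⟩ := H11Ample.exists_iso_pullback_tensorPow (prK k X) (hOinv 1) e
    let E : pb (prK k X) (CohB1.tensorMod L (TwistOn.O i (e : ℤ))) ≅
        CohB1.tensorMod (Pic13.fibreMod _ (XK k X) q t ht G) (CohB1.tensorPow (pb (prK k X) (TwistOn.O i 1)) e) :=
      pT (prK k X) L _ ≪≫ tI eG.symm ((Scheme.Modules.pullback (prK k X)).mapIso ew.symm ≪≫ ep)
    haveI : Subsingleton (Coh.HH (XK k X) (pb (prK k X) (CohB1.tensorMod L (TwistOn.O i (e : ℤ)))) p) :=
      H10Coh.subsingleton_HH_of_iso E.symm p inferInstance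
    haveI : Module.Finite k (Coh.HH X (CohB1.tensorMod L (TwistOn.O i (e : ℤ))) p) :=
      H10Coh.finite_HH_proper k X _ hc p
    refine (Module.finrank_zero_iff (R := k)).1 ?_
    rw [← H28Int.FieldExt.finrank_HH_bc (AlgebraicClosure k) (sqK k) hc p]
    exact Module.finrank_zero_of_subsingleton

open H22Alg H22Alg.MumfordBdd H22Alg.CMField in
/-- On a projective scheme all numerically trivial modules are cokernels of maps between two fixed modules. -/
theorem exists_presentation_nt_field {A₀ : X.Modules} (hA₀ : CohB1.IsAmple A₀) :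
    ∃ A B : X.Modules, Coh.IsCoh A ∧ Coh.IsCoh B ∧ ∀ L, NT k L → ∃ v : B ⟶ A, Nonempty (cokernel v ≅ L) := by
  obtain ⟨n, i, hi, hι⟩ := H22Alg.CurveProj.exists_closedImmersion k X hA₀
  haveI := hi
  haveI := CMHyper.noetherian k n
  haveI := MumfordBound.proper_toSpec (k := k) (n := n)
  haveI : IsLocallyNoetherian X := LocallyOfFiniteType.isLocallyNoetherian i
  haveI := H28Int.isNoetherian k (X := X)
  have hs := setup k n
  obtain ⟨m, hm⟩ := exists_reg k i
  obtain ⟨a, b, hab⟩ := exists_presentation (k := k) (n := n) (m : ℤ) fun d => Curv2.euler k X (TwistOn.O i d)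
  refine ⟨(Scheme.Modules.pullback i).obj (∐ fun _ : Fin a => Twist.twistProjSpace n k (-(m : ℤ))),
    (Scheme.Modules.pullback i).obj (∐ fun _ : Fin b => Twist.twistProjSpace n k (-((m : ℤ) + 1))),
    H17.ConsProp.isCoh_pullback i (H10Coh.isCoh_sigma _ fun _ => H11Ample.isCoh_of_isInvertible (hs.fam.inv _)),
    H17.ConsProp.isCoh_pullback i (H10Coh.isCoh_sigma _ fun _ => H11Ample.isCoh_of_isInvertible (hs.fam.inv _)),
    fun L hL => ?_⟩
  have hc := H11Ample.isCoh_of_isInvertible hL.inv
  have hE : Coh.IsCoh ((Coh.push i).obj L) := H10Coh.isCoh_push_of_isFinite i _ hc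
  obtain ⟨v, ⟨e⟩⟩ := hab _ hE (fun q hq => (van_push_iff i hc q _).2 (hm L hL q hq)) fun d => by
    have hi := hs.fam.inv d
    obtain ⟨e⟩ := H10Coh.Tw.nonempty_push_tensor_iso i L hi
    haveI : (CohB1.tensorMod L ((Scheme.Modules.pullback i).obj (Twist.twistProjSpace n k d))).IsQuasicoherent :=
      (H11Ample.isCoh_tensor hc (H11Ample.isInvertible_pullback i hi)).1
    rw [H25Euler.euler_congr e, H28Int.Push.euler_push k i hι]
    exact euler_tensor_field k (H11Ample.isCoh_of_isInvertible ((TwistOn.fam i).inv d)) hL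
  haveI : (Scheme.Modules.pullback i).IsLeftAdjoint :=
    (Scheme.Modules.pullbackPushforwardAdjunction i).isLeftAdjoint
  haveI : (Scheme.Modules.pullback i).Additive :=
    (Scheme.Modules.pullbackPushforwardAdjunction i).left_adjoint_additive
  exact ⟨(Scheme.Modules.pullback i).map v, ⟨(PreservesCokernel.iso (Scheme.Modules.pullback i) v).symm ≪≫
    (Scheme.Modules.pullback i).mapIso e ≪≫
    @asIso _ _ _ _ _ (H24Hilb.Closed.isIso_counit_of_isClosedImmersion i L)⟩⟩

end Groth.Agent.H12Pic.FinField
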